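import Mathlib
import Groth.Prelude.Def_EtRam
import Groth.Agent.Lib.Helper9.SepSol.AbhCore0
import Groth.Agent.S2451

/-!
# Weakly unramified extensions with separable residue extension stay so after base change
(abstract version for discrete valuation rings; helper9)
-/

universe u

open IsLocalRing TensorProduct EtRam

namespace Groth.Agent.Lib.Helper9.SepSol.AbhDVR0

section Unramified

variable (A B V W : Type u) [CommRing A] [IsLocalRing A] [CommRing B] [IsLocalRing B]
  [CommRing V] [IsDomain V] [IsDiscreteValuationRing V]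
  [CommRing W] [IsDomain W] [IsDiscreteValuationRing W]
  [Algebra A B] [Algebra A V] [Algebra B W] [Algebra V W] [Algebra A W]
  [IsScalarTower A B W] [IsScalarTower A V W]
  [IsLocalHom (algebraMap A B)] [IsLocalHom (algebraMap A V)] [IsLocalHom (algebraMap B W)]
  [IsLocalHom (algebraMap V W)]

/-- The `ResidueField A`-action is compatible with the tensor product over `A`. -/
theorem compatibleSMul_residue :
    TensorProduct.CompatibleSMul A (ResidueField A) (ResidueField V) (ResidueField B) := by
  constructor
  intro r m n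
  obtain ⟨a, rfl⟩ := residue_surjective r
  have h1 : residue A a • m = a • m := by
    rw [← ResidueField.algebraMap_eq, algebraMap_smul]
  have h2 : residue A a • n = a • n := by
    rw [← ResidueField.algebraMap_eq, algebraMap_smul]
  rw [h1, h2, TensorProduct.smul_tmul]

set_option maxHeartbeats 2000000 in
set_option synthInstance.maxHeartbeats 100000 in
/-- If `A → B` is weakly unramified with geometrically reduced residue field extension, `V` is a
DVR over `A` with finite residue field extension, and `W` is a DVR receiving `B` and `V`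
compatibly whose fraction field is generated by the images, then `V → W` is weakly unramified
with geometrically reduced residue field extension. -/
theorem weaklyUnramified_and_geometricallyReduced
    [Algebra.IsAlgebraic (ResidueField A) (ResidueField V)]
    [Algebra.IsGeometricallyReduced (ResidueField A) (ResidueField B)]
    (hw : IsWeaklyUnramified A B) (hVW : Function.Injective (algebraMap V W))
    (hgen : ∀ w : W, ∃ c s : V ⊗[A] B,
      Algebra.TensorProduct.productMap (IsScalarTower.toAlgHom A V W)
        (IsScalarTower.toAlgHom A B W) s ≠ 0 ∧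
      w * Algebra.TensorProduct.productMap (IsScalarTower.toAlgHom A V W)
        (IsScalarTower.toAlgHom A B W) s =
      Algebra.TensorProduct.productMap (IsScalarTower.toAlgHom A V W)
        (IsScalarTower.toAlgHom A B W) c) :
    IsWeaklyUnramified V W ∧
      Algebra.IsGeometricallyReduced (ResidueField V) (ResidueField W) := by
  classical
  let ψ : V ⊗[A] B →ₐ[A] W :=
    Algebra.TensorProduct.productMap (IsScalarTower.toAlgHom A V W) (IsScalarTower.toAlgHom A B W)
  let Ψ : V ⊗[A] B →+* W := ψ.toRingHom
  let fV : V →ₐ[A] ResidueField V := IsScalarTower.toAlgHom A V (ResidueField V)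
  let fB : B →ₐ[A] ResidueField B := IsScalarTower.toAlgHom A B (ResidueField B)
  have hfV : Function.Surjective fV := residue_surjective
  have hfB : Function.Surjective fB := residue_surjective
  let μ : V ⊗[A] B →ₐ[A] ResidueField V ⊗[A] ResidueField B := Algebra.TensorProduct.map fV fB
  let q : V ⊗[A] B →+* ResidueField V ⊗[A] ResidueField B := μ.toRingHom
  have hq : Function.Surjective q := Algebra.TensorProduct.map_surjective fV fB hfV hfB
  have hkerμ : RingHom.ker q =
      (maximalIdeal V).map (Algebra.TensorProduct.includeLeft : V →ₐ[A] V ⊗[A] B) ⊔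
      (maximalIdeal B).map (Algebra.TensorProduct.includeRight : B →ₐ[A] V ⊗[A] B) := by
    have h := Algebra.TensorProduct.map_ker fV fB hfV hfB
    have h1 : RingHom.ker fV = maximalIdeal V := ker_residue
    have h2 : RingHom.ker fB = maximalIdeal B := ker_residue
    rw [h1, h2] at h
    exact h
  -- structure of `D`
  haveI := compatibleSMul_residue A B V
  let ε : ResidueField V ⊗[A] ResidueField B ≃ₐ[ResidueField V]
      ResidueField V ⊗[ResidueField A] ResidueField B :=
    Algebra.TensorProduct.equivOfCompatibleSMul (ResidueField A) A (ResidueField V)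
      (ResidueField V) (ResidueField B)
  haveI hred0 : IsReduced (ResidueField V ⊗[ResidueField A] ResidueField B) := inferInstance
  haveI hred : IsReduced (ResidueField V ⊗[A] ResidueField B) :=
    isReduced_of_injective ε.toAlgHom ε.injective
  haveI hint0 : Algebra.IsIntegral (ResidueField A) (ResidueField V) :=
    Algebra.IsAlgebraic.isIntegral
  haveI hint1 : Algebra.IsIntegral (ResidueField B)
      (ResidueField B ⊗[ResidueField A] ResidueField V) := inferInstance
  haveI hart0 : Ring.KrullDimLE 0 (ResidueField B ⊗[ResidueField A] ResidueField V) := by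
    rw [Ring.krullDimLE_zero_iff]
    intro P hP
    refine Ideal.isMaximal_of_isIntegral_of_isMaximal_comap (R := ResidueField B) P ?_
    have : P.comap (algebraMap (ResidueField B)
        (ResidueField B ⊗[ResidueField A] ResidueField V)) = ⊥ := by
      have hprime := Ideal.comap_isPrime (algebraMap (ResidueField B)
        (ResidueField B ⊗[ResidueField A] ResidueField V)) P
      rcases Ideal.eq_bot_or_top (P.comap (algebraMap (ResidueField B)
        (ResidueField B ⊗[ResidueField A] ResidueField V))) with h | h
      · exact h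
      · exact absurd h hprime.ne_top
    rw [this]
    exact Ideal.bot_isMaximal
  haveI hart1 : Ring.KrullDimLE 0 (ResidueField V ⊗[ResidueField A] ResidueField B) := by
    rw [Ring.krullDimLE_iff, ← ringKrullDim_eq_of_ringEquiv
      (Algebra.TensorProduct.comm (ResidueField A) (ResidueField B)
        (ResidueField V)).toRingEquiv, ← Ring.krullDimLE_iff]
    exact hart0
  haveI hart : Ring.KrullDimLE 0 (ResidueField V ⊗[A] ResidueField B) := by
    rw [Ring.krullDimLE_iff, ringKrullDim_eq_of_ringEquiv ε.toRingEquiv, ← Ring.krullDimLE_iff]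
    exact hart1
  haveI hfsAB : Algebra.FormallySmooth (ResidueField A) (ResidueField B) :=
    Groth.Agent.S2451.result.mpr inferInstance
  haveI hfs0 : Algebra.FormallySmooth (ResidueField V)
      (ResidueField V ⊗[ResidueField A] ResidueField B) := inferInstance
  haveI hfs : Algebra.FormallySmooth (ResidueField V) (ResidueField V ⊗[A] ResidueField B) :=
    Algebra.FormallySmooth.of_equiv ε.symm
  -- the uniformizer
  obtain ⟨π₁, hπ₁⟩ := IsDiscreteValuationRing.exists_irreducible V
  let p : V ⊗[A] B := π₁ ⊗ₜ[A] (1 : B)
  have hΨl : ∀ v : V, Ψ (v ⊗ₜ[A] (1 : B)) = algebraMap V W v := by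
    intro v
    show ψ (v ⊗ₜ[A] (1 : B)) = _
    simp [ψ]
  have hΨp : Ψ p = algebraMap V W π₁ := hΨl π₁
  have hpm : Ψ p ∈ maximalIdeal W := by
    rw [hΨp]
    exact ((mem_maximalIdeal _).mpr (fun hu =>
      hπ₁.not_isUnit (isUnit_of_map_unit (algebraMap V W) π₁ hu)))
  have hp0 : Ψ p ≠ 0 := by
    rw [hΨp]
    intro h
    exact hπ₁.ne_zero (hVW (by rw [h, map_zero]))
  -- the hypothesis `H`
  let J : Ideal (V ⊗[A] B) := Ideal.comap Ψ.rangeRestrict (Ideal.span {Ψ.rangeRestrict p})
  have hJl : ∀ v ∈ maximalIdeal V, (v ⊗ₜ[A] (1 : B) : V ⊗[A] B) ∈ J := by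
    intro v hv
    rw [hπ₁.maximalIdeal_eq, Ideal.mem_span_singleton'] at hv
    obtain ⟨v', rfl⟩ := hv
    show Ψ.rangeRestrict ((v' * π₁) ⊗ₜ[A] (1 : B)) ∈ Ideal.span {Ψ.rangeRestrict p}
    have : ((v' * π₁) ⊗ₜ[A] (1 : B) : V ⊗[A] B) = (v' ⊗ₜ[A] (1 : B)) * p := by
      rw [Algebra.TensorProduct.tmul_mul_tmul, mul_one]
    rw [this, map_mul]
    exact Ideal.mul_mem_left _ _ (Ideal.mem_span_singleton_self _)
  have hkerJ : RingHom.ker q ≤ J := by
    rw [hkerμ]
    refine sup_le ?_ ?_
    · rw [Ideal.map_le_iff_le_comap]
      intro v hv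
      exact hJl v hv
    · have hw' : (maximalIdeal A).map (algebraMap A B) = maximalIdeal B := hw
      rw [← hw', Ideal.map_le_iff_le_comap, Ideal.map_le_iff_le_comap]
      intro a ha
      show (Algebra.TensorProduct.includeRight : B →ₐ[A] V ⊗[A] B) (algebraMap A B a) ∈ J
      rw [AlgHom.commutes, ← (Algebra.TensorProduct.includeLeft : V →ₐ[A] V ⊗[A] B).commutes a]
      apply hJl
      exact ((mem_maximalIdeal _).mpr (fun hu =>
        ((mem_maximalIdeal _).mp ha) (isUnit_of_map_unit (algebraMap A V) a hu)))
  have H : ∀ t, q t = 0 → ∃ t₁, Ψ t = Ψ p * Ψ t₁ := by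
    intro t ht
    have htJ : t ∈ J := hkerJ ((RingHom.mem_ker).mpr ht)
    have h1 : Ψ.rangeRestrict t ∈ Ideal.span {Ψ.rangeRestrict p} := htJ
    rw [Ideal.mem_span_singleton'] at h1
    obtain ⟨a, ha⟩ := h1
    obtain ⟨t₁, ht₁⟩ := a.2
    refine ⟨t₁, ?_⟩
    have h2 := congrArg (fun x : Ψ.range => (x : W)) ha
    simp only [Subring.coe_mul, RingHom.coe_rangeRestrict] at h2
    rw [← h2, ht₁, mul_comm]
  have hgen' : ∀ w : W, ∃ c s : V ⊗[A] B, Ψ s ≠ 0 ∧ w * Ψ s = Ψ c := hgen
  constructor
  · -- weakly unramified
    have h1 := AbhCore0.uniformizer Ψ q hq p hpm hp0 H hgen'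
    show (maximalIdeal V).map (algebraMap V W) = maximalIdeal W
    rw [h1, hΨp, hπ₁.maximalIdeal_eq, Ideal.map_span, Set.image_singleton]
  · -- residue field extension
    have h2 : Algebra.FormallySmooth (ResidueField V) (ResidueField W) := by
      refine AbhCore0.formallySmooth_residueField Ψ q hq p hpm hp0 H hgen' (ResidueField V) ?_
      intro c t ht
      obtain ⟨v, rfl⟩ := residue_surjective c
      have hqv : q (v ⊗ₜ[A] (1 : B)) =
          algebraMap (ResidueField V) (ResidueField V ⊗[A] ResidueField B) (residue V v) := by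
        show μ (v ⊗ₜ[A] (1 : B)) = _
        rw [Algebra.TensorProduct.map_tmul, map_one, Algebra.TensorProduct.algebraMap_apply]
        rfl
      have hdiff : q (t - v ⊗ₜ[A] (1 : B)) = 0 := by
        rw [map_sub, ht, hqv, sub_self]
      have hmem := AbhCore0.hker_of_H Ψ q p hpm H _ hdiff
      rw [map_sub, ← residue_eq_zero_iff, map_sub, sub_eq_zero, hΨl] at hmem
      rw [hmem]
      rfl
    exact Groth.Agent.S2451.result.mp h2

end Unramified

end Groth.Agent.Lib.Helper9.SepSol.AbhDVR0
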