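import Mathlib
import Groth.Prelude.Def_EtRam
import Groth.Agent.Lib.Helper9.SepSol.AbhDVR0
import Groth.Agent.Lib.Helper9.AbhGen
import Groth.Agent.Lib.Helper9.KADominates
import Groth.Agent.Lib.Helper9.AbhyankarCore
import Groth.Agent.Lib.Helper9.TameBase

/-!
# Frobenius descent of solutions along purely inseparable extensions (helper9)

Let `A → B` be an extension of discrete valuation rings with fraction fields `K ⊂ L`, `L / K`
*algebraic* and separable.  If the finite extension `K₂ / K` is a solution for `A → B`, then so is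
the separable closure `K₃` of `K` in `K₂`.

Idea: `K₂ ^ q ⊆ K₃` for `q = p ^ n`; for a compositum `M = L K₃` with valuation ring `W` consider
the subfield `N = L ^ q K₂ ^ q` of `M`, which is a compositum of `L` and `K₂` (via Frobenius).  The
solution property for `K₂` shows `W ∩ K₂ ^ q → W ∩ N` is weakly unramified with separable residue
extension, and since `L / K` is algebraic separable, `M = N K₃`; the base change lemma `AbhDVR0`
then gives the result for `W ∩ K₃ → W`.
-/

universe u

open IsLocalRing TensorProduct EtRam IntermediateField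

namespace Groth.Agent.Lib.Helper9.SepSol.Descent

open Groth.Agent.Lib.Helper9

section Gen

variable {K L K₂ M : Type u} [Field K] [Field L] [Field K₂] [Field M]
  [Algebra K L] [Algebra K K₂]

/-- The subfield generated by the images of two fields is, as an algebra over the first,
generated by the image of the second, when the latter is algebraic. -/
theorem adjoin_eq_top_of_closure (gL : L →+* M) (g₂ : K₂ →+* M)
    (hcompat : ∀ c : K, gL (algebraMap K L c) = g₂ (algebraMap K K₂ c))
    [Algebra.IsAlgebraic K K₂]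
    (N : Subfield M) (hN : N = Subfield.closure (Set.range gL ∪ Set.range g₂))
    (hL : ∀ x, gL x ∈ N) (h₂ : ∀ x, g₂ x ∈ N) :
    letI : Algebra L N := (gL.codRestrict N hL).toAlgebra
    Algebra.adjoin L (Set.range (g₂.codRestrict N h₂)) = ⊤ := by
  letI algLN : Algebra L N := (gL.codRestrict N hL).toAlgebra
  letI algK₂N : Algebra K₂ N := (g₂.codRestrict N h₂).toAlgebra
  letI algKN : Algebra K N := ((algebraMap L N).comp (algebraMap K L)).toAlgebra
  haveI : IsScalarTower K L N := IsScalarTower.of_algebraMap_eq (fun _ => rfl)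
  haveI : IsScalarTower K K₂ N :=
    IsScalarTower.of_algebraMap_eq (fun c => Subtype.ext (hcompat c))
  show Algebra.adjoin L (Set.range (algebraMap K₂ N)) = ⊤
  set S : Subalgebra L N := Algebra.adjoin L (Set.range (algebraMap K₂ N)) with hS
  have hint : ∀ x ∈ Set.range (algebraMap K₂ N), IsIntegral L x := by
    rintro _ ⟨k, rfl⟩
    have h1 : IsIntegral K k := (Algebra.IsAlgebraic.isAlgebraic k).isIntegral
    have h2 : IsIntegral K (algebraMap K₂ N k) := h1.map (IsScalarTower.toAlgHom K K₂ N)
    exact h2.tower_top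
  haveI hSint : Algebra.IsIntegral L S := Algebra.IsIntegral.adjoin hint
  have hinv : ∀ s : N, s ∈ S → s⁻¹ ∈ S := by
    intro s hs
    have halg : IsAlgebraic L s := by
      have h1 : IsIntegral L (⟨s, hs⟩ : S) := Algebra.IsIntegral.isIntegral _
      have h2 : IsIntegral L ((⟨s, hs⟩ : S) : N) := h1.map S.val
      exact h2.isAlgebraic
    exact Subalgebra.inv_mem_of_algebraic (A := S) (x := ⟨s, hs⟩) halg
  rw [eq_top_iff]
  rintro ⟨m, hm⟩ -
  have key : ∀ (m : M) (hm : m ∈ Subfield.closure (Set.range gL ∪ Set.range g₂)),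
      (⟨m, hN ▸ hm⟩ : N) ∈ S := by
    intro m hm
    induction hm using Subfield.closure_induction with
    | mem x hx =>
      rcases hx with ⟨l, rfl⟩ | ⟨k, rfl⟩
      · exact S.algebraMap_mem l
      · exact Algebra.subset_adjoin ⟨k, rfl⟩
    | one => exact S.one_mem
    | add x y hx hy hx' hy' => exact S.add_mem hx' hy'
    | neg x hx hx' => exact S.neg_mem hx'
    | inv x hx hx' => exact hinv _ hx'
    | mul x y hx hy hx' hy' => exact S.mul_mem hx' hy'
  exact key m (hN ▸ hm)

end Gen

section Gen2

variable {K L K₃ M : Type u} [Field K] [Field L] [Field K₃] [Field M]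
  [Algebra K L] [Algebra K K₃] [Algebra K M] [Algebra L M] [Algebra K₃ M]
  [IsScalarTower K L M] [IsScalarTower K K₃ M]

/-- If `L / K` is algebraic separable and the subfield `N` of the compositum `M = L K₃` contains
all `q`-th powers of elements of `L` (`q = p ^ n`), then `M = N K₃`. -/
theorem adjoin_subfield_eq_top (p n : ℕ) [ExpChar K p] [Algebra.IsSeparable K L]
    (hgenM : Algebra.adjoin L (Set.range (algebraMap K₃ M)) = ⊤) (N : Subfield M)
    (hN : ∀ a : L, (algebraMap L M a) ^ p ^ n ∈ N) :
    Algebra.adjoin N (Set.range (algebraMap K₃ M)) = ⊤ := by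
  set S' : Subalgebra N M := Algebra.adjoin N (Set.range (algebraMap K₃ M)) with hS'
  have hK : ∀ c : K, algebraMap K M c ∈ S' := by
    intro c
    rw [IsScalarTower.algebraMap_apply K K₃ M]
    exact Algebra.subset_adjoin ⟨_, rfl⟩
  let S'' : Subalgebra K M := { S'.toSubsemiring with algebraMap_mem' := hK }
  have hmem'' : ∀ x : M, x ∈ S'' ↔ x ∈ S' := fun x => Iff.rfl
  have hL : ∀ a : L, algebraMap L M a ∈ S' := by
    intro a
    have h1 : K⟮a⟯ = K⟮a ^ p ^ n⟯ :=
      IntermediateField.adjoin_simple_eq_adjoin_pow_expChar_pow_of_isSeparable' K L a p n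
    have h2 : a ∈ K⟮a ^ p ^ n⟯ := by
      rw [← h1]
      exact IntermediateField.mem_adjoin_simple_self K a
    have h3 : a ∈ Algebra.adjoin K {a ^ p ^ n} := by
      rw [← IntermediateField.adjoin_simple_toSubalgebra_of_isAlgebraic
        (Algebra.IsAlgebraic.isAlgebraic _)]
      exact h2
    have h4 : algebraMap L M a ∈ Algebra.adjoin K {(algebraMap L M a) ^ p ^ n} := by
      have h5 : (IsScalarTower.toAlgHom K L M) a ∈
          (Algebra.adjoin K {a ^ p ^ n}).map (IsScalarTower.toAlgHom K L M) :=
        Subalgebra.mem_map.mpr ⟨a, h3, rfl⟩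
      rw [AlgHom.map_adjoin, Set.image_singleton] at h5
      simpa using h5
    have h6 : Algebra.adjoin K {(algebraMap L M a) ^ p ^ n} ≤ S'' := by
      apply Algebra.adjoin_le
      rintro _ rfl
      rw [SetLike.mem_coe, hmem'']
      exact S'.algebraMap_mem ⟨_, hN a⟩
    exact (hmem'' _).mp (h6 h4)
  rw [eq_top_iff]
  intro x hxtop
  clear hxtop
  have hx : x ∈ Algebra.adjoin L (Set.range (algebraMap K₃ M)) := hgenM ▸ Algebra.mem_top
  induction hx using Algebra.adjoin_induction with
  | mem x hx => exact Algebra.subset_adjoin hx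
  | algebraMap r => exact hL r
  | add x y _ _ hx hy => exact S'.add_mem hx hy
  | mul x y _ _ hx hy => exact S'.mul_mem hx hy

end Gen2

section Main

open Groth.Agent.Lib.Helper9.TameBase

set_option maxHeartbeats 4000000 in
set_option synthInstance.maxHeartbeats 100000 in
/-- **Frobenius descent**, abstract form: `K ⊆ K₃ ⊆ K₂` with `K₂ ^ q ⊆ K₃` (`q = p ^ n`), `L / K`
algebraic separable; if `K₂` is a solution then so is `K₃`. -/
theorem descent (A B K L : Type u) [CommRing A] [IsDomain A]
    [IsDiscreteValuationRing A] [CommRing B] [IsDomain B] [IsDiscreteValuationRing B]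
    [Algebra A B] [IsLocalHom (algebraMap A B)] (hinj : Function.Injective (algebraMap A B))
    [Field K] [Field L] [Algebra A K] [IsFractionRing A K] [Algebra B L] [IsFractionRing B L]
    [Algebra K L] [Algebra A L] [IsScalarTower A K L] [IsScalarTower A B L]
    [Algebra.IsSeparable K L]
    (K₂ K₃ : Type u) [Field K₂] [Field K₃] [Algebra K K₂] [Algebra K K₃] [Algebra K₃ K₂]
    [IsScalarTower K K₃ K₂] [FiniteDimensional K K₂] [FiniteDimensional K K₃]
    (p n : ℕ) [ExpChar K p] (φK : K₂ →+* K₃) (hφK : ∀ x, algebraMap K₃ K₂ (φK x) = x ^ p ^ n)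
    (h₂ : EtRam.IsSolution B K L K₂) :
    EtRam.IsSolution B K L K₃ := by
  classical
  intro M _ _ _ _ _ _ hgenM W hW
  haveI : ExpChar K₃ p := expChar_of_injective_algebraMap (algebraMap K K₃).injective p
  haveI : ExpChar K₂ p := expChar_of_injective_algebraMap (algebraMap K K₂).injective p
  haveI : ExpChar M p := expChar_of_injective_algebraMap (algebraMap K M).injective p
  haveI : ExpChar L p := expChar_of_injective_algebraMap (algebraMap K L).injective p
  have hq0 : 0 < p ^ n := expChar_pow_pos K p n
  -- `φK` on `K₃`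
  have hφK₃ : ∀ c : K₃, φK (algebraMap K₃ K₂ c) = c ^ p ^ n := by
    intro c
    apply (algebraMap K₃ K₂).injective
    rw [hφK, map_pow]
  -- the two maps to `M`
  obtain ⟨gL, hgL⟩ : ∃ gL : L →+* M, ∀ x, gL x = (algebraMap L M x) ^ p ^ n :=
    ⟨(iterateFrobenius M p n).comp (algebraMap L M), fun x => by
      rw [RingHom.comp_apply, iterateFrobenius_def]⟩
  obtain ⟨g₂, hg₂⟩ : ∃ g₂ : K₂ →+* M, ∀ x, g₂ x = algebraMap K₃ M (φK x) :=
    ⟨(algebraMap K₃ M).comp φK, fun x => rfl⟩
  have hcompat : ∀ c : K, gL (algebraMap K L c) = g₂ (algebraMap K K₂ c) := by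
    intro c
    rw [hgL, hg₂, IsScalarTower.algebraMap_apply K K₃ K₂, hφK₃, map_pow,
      ← IsScalarTower.algebraMap_apply K L M, ← IsScalarTower.algebraMap_apply K K₃ M]
  -- the subfield `N`
  obtain ⟨N, hNdef⟩ : ∃ N : Subfield M, N = Subfield.closure (Set.range gL ∪ Set.range g₂) :=
    ⟨_, rfl⟩
  have hLN : ∀ x, gL x ∈ N := fun x => by
    rw [hNdef]; exact Subfield.subset_closure (Or.inl ⟨x, rfl⟩)
  have h₂N : ∀ x, g₂ x ∈ N := fun x => by
    rw [hNdef]; exact Subfield.subset_closure (Or.inr ⟨x, rfl⟩)
  letI algLN : Algebra L N := (gL.codRestrict N hLN).toAlgebra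
  letI algK₂N : Algebra K₂ N := (g₂.codRestrict N h₂N).toAlgebra
  letI algKN : Algebra K N := ((algebraMap L N).comp (algebraMap K L)).toAlgebra
  haveI towKLN : IsScalarTower K L N := IsScalarTower.of_algebraMap_eq (fun _ => rfl)
  haveI towKK₂N : IsScalarTower K K₂ N :=
    IsScalarTower.of_algebraMap_eq (fun c => Subtype.ext (hcompat c))
  haveI : Algebra.IsAlgebraic K K₂ := Algebra.IsAlgebraic.of_finite K K₂
  have hgenN : Algebra.adjoin L (Set.range (algebraMap K₂ N)) = ⊤ :=
    adjoin_eq_top_of_closure gL g₂ hcompat N hNdef hLN h₂N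
  -- the valuation subring of `N`
  have hmemWN : ∀ x : N, x ∈ W.comap N.subtype ↔ (x : M) ∈ W := fun x => Iff.rfl
  have hdomN : Dominates B ((algebraMap L N).comp (algebraMap B L)) (W.comap N.subtype) := by
    refine ⟨fun b => ?_, fun b hb => ?_⟩
    · rw [hmemWN]
      show gL (algebraMap B L b) ∈ W
      rw [hgL]
      exact pow_mem (hW.1 b) _
    · rw [AbhyankarCore.valuation_comap_lt_one_iff]
      show W.valuation (gL (algebraMap B L b)) < 1
      rw [hgL, map_pow]
      exact pow_lt_one' (hW.2 b hb) hq0.ne'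
  have hN := @h₂ N _ algKN algLN algK₂N towKLN towKK₂N hgenN (W.comap N.subtype) hdomN
  -- DVR structures
  letI algAK₃ : Algebra A K₃ := ((algebraMap K K₃).comp (algebraMap A K)).toAlgebra
  haveI towAKK₃ : IsScalarTower A K K₃ := IsScalarTower.of_algebraMap_eq (fun _ => rfl)
  letI algBM : Algebra B M := ((algebraMap L M).comp (algebraMap B L)).toAlgebra
  haveI towBLM : IsScalarTower B L M := IsScalarTower.of_algebraMap_eq (fun _ => rfl)
  let ψM : L ⊗[K] K₃ →ₐ[L] M :=
    Algebra.TensorProduct.productLeftAlgHom (Algebra.ofId L M) (IsScalarTower.toAlgHom K K₃ M)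
  have hψMr : ψM.range = ⊤ := by
    rw [eq_top_iff, ← hgenM]
    apply Algebra.adjoin_le
    rintro _ ⟨k, rfl⟩
    refine ⟨(1 : L) ⊗ₜ[K] k, ?_⟩
    simp [ψM]
  have hψM : Function.Surjective ψM := (AlgHom.range_eq_top ψM).mp hψMr
  haveI hfdM : Module.Finite L M := Module.Finite.of_surjective ψM.toLinearMap hψM
  have hcomm : ∀ a : A, algebraMap K₃ M (algebraMap A K₃ a) =
      algebraMap B M (algebraMap A B a) := by
    intro a
    show algebraMap K₃ M (algebraMap K K₃ (algebraMap A K a)) =
      algebraMap L M (algebraMap B L (algebraMap A B a))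
    rw [← IsScalarTower.algebraMap_apply K K₃ M, IsScalarTower.algebraMap_apply K L M,
      ← IsScalarTower.algebraMap_apply A K L, ← IsScalarTower.algebraMap_apply A B L]
  have hW' : Dominates B (algebraMap B M) W := hW
  have hdomV : Dominates A (algebraMap A K₃) (W.comap (algebraMap K₃ M)) := by
    refine ⟨fun a => ?_, fun a ha => ?_⟩
    · show algebraMap K₃ M (algebraMap A K₃ a) ∈ W
      rw [hcomm]
      exact hW'.1 _
    · rw [AbhyankarCore.valuation_comap_lt_one_iff, hcomm]
      apply hW'.2
      exact ((mem_maximalIdeal _).mpr (fun hu =>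
        ((mem_maximalIdeal _).mp ha) (isUnit_of_map_unit (algebraMap A B) a hu)))
  haveI hdvrV : IsDiscreteValuationRing (W.comap (algebraMap K₃ M)) :=
    KADominates.isDiscreteValuationRing_of_dominates_finite A K _ hdomV
  haveI hdvrW : IsDiscreteValuationRing W :=
    KADominates.isDiscreteValuationRing_of_dominates_finite B L W hW'
  -- algebra structures
  have hmemVN : ∀ x : K₂, x ∈ (W.comap N.subtype).comap (algebraMap K₂ N) ↔ g₂ x ∈ W :=
    fun x => Iff.rfl
  have hφmem : ∀ x : (W.comap N.subtype).comap (algebraMap K₂ N),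
      (φK.comp ((W.comap N.subtype).comap (algebraMap K₂ N)).subtype) x ∈
        W.comap (algebraMap K₃ M) := by
    intro x
    show algebraMap K₃ M (φK (x : K₂)) ∈ W
    rw [← hg₂]
    exact (hmemVN _).mp x.2
  letI algVNWN : Algebra ((W.comap N.subtype).comap (algebraMap K₂ N)) (W.comap N.subtype) :=
    (inclOfComap (W.comap N.subtype) (algebraMap K₂ N)).toAlgebra
  letI algVNV₃ : Algebra ((W.comap N.subtype).comap (algebraMap K₂ N))
      (W.comap (algebraMap K₃ M)) :=
    (RingHom.codRestrict (φK.comp ((W.comap N.subtype).comap (algebraMap K₂ N)).subtype)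
      (W.comap (algebraMap K₃ M)) hφmem).toAlgebra
  letI algWNW : Algebra (W.comap N.subtype) W := (inclOfComap W N.subtype).toAlgebra
  letI algV₃W : Algebra (W.comap (algebraMap K₃ M)) W :=
    (inclOfComap W (algebraMap K₃ M)).toAlgebra
  letI algVNW : Algebra ((W.comap N.subtype).comap (algebraMap K₂ N)) W :=
    ((algebraMap (W.comap N.subtype) W).comp
      (algebraMap ((W.comap N.subtype).comap (algebraMap K₂ N)) (W.comap N.subtype))).toAlgebra
  haveI tow1 : IsScalarTower ((W.comap N.subtype).comap (algebraMap K₂ N)) (W.comap N.subtype) W :=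
    IsScalarTower.of_algebraMap_eq (fun _ => rfl)
  haveI tow2 : IsScalarTower ((W.comap N.subtype).comap (algebraMap K₂ N))
      (W.comap (algebraMap K₃ M)) W :=
    IsScalarTower.of_algebraMap_eq (fun x => Subtype.ext (hg₂ (x : K₂)))
  haveI loc1 : IsLocalHom (algebraMap ((W.comap N.subtype).comap (algebraMap K₂ N))
      (W.comap N.subtype)) := isLocalHom_inclOfComap _ _
  haveI loc3 : IsLocalHom (algebraMap (W.comap N.subtype) W) := isLocalHom_inclOfComap W N.subtype
  haveI loc4 : IsLocalHom (algebraMap (W.comap (algebraMap K₃ M)) W) :=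
    isLocalHom_inclOfComap W (algebraMap K₃ M)
  haveI loc2 : IsLocalHom (algebraMap ((W.comap N.subtype).comap (algebraMap K₂ N))
      (W.comap (algebraMap K₃ M))) := by
    haveI : IsLocalHom ((algebraMap (W.comap (algebraMap K₃ M)) W).comp
        (algebraMap ((W.comap N.subtype).comap (algebraMap K₂ N))
          (W.comap (algebraMap K₃ M)))) := by
      have heq : (algebraMap (W.comap (algebraMap K₃ M)) W).comp
          (algebraMap ((W.comap N.subtype).comap (algebraMap K₂ N))
            (W.comap (algebraMap K₃ M))) =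
          (algebraMap (W.comap N.subtype) W).comp
            (algebraMap ((W.comap N.subtype).comap (algebraMap K₂ N)) (W.comap N.subtype)) := by
        ext x
        exact congrArg Subtype.val
          ((IsScalarTower.algebraMap_apply ((W.comap N.subtype).comap (algebraMap K₂ N))
            (W.comap (algebraMap K₃ M)) W x).symm.trans
          (IsScalarTower.algebraMap_apply ((W.comap N.subtype).comap (algebraMap K₂ N))
            (W.comap N.subtype) W x))
      rw [heq]
      exact RingHom.isLocalHom_comp _ _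
    exact isLocalHom_of_comp (algebraMap ((W.comap N.subtype).comap (algebraMap K₂ N))
      (W.comap (algebraMap K₃ M))) (algebraMap (W.comap (algebraMap K₃ M)) W)
  -- the residue field extension `κ(V_N) → κ(V₃)` is algebraic
  haveI halg : Algebra.IsAlgebraic
      (ResidueField ((W.comap N.subtype).comap (algebraMap K₂ N)))
      (ResidueField (W.comap (algebraMap K₃ M))) := by
    refine ⟨fun r => ?_⟩
    obtain ⟨v, rfl⟩ := residue_surjective r
    have hx : algebraMap K₃ K₂ (v : K₃) ∈ (W.comap N.subtype).comap (algebraMap K₂ N) := by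
      rw [hmemVN, hg₂, hφK₃, map_pow]
      exact pow_mem (show algebraMap K₃ M (v : K₃) ∈ W from v.2) _
    have hpow : (residue (W.comap (algebraMap K₃ M)) v) ^ (p ^ n) =
        algebraMap (ResidueField ((W.comap N.subtype).comap (algebraMap K₂ N)))
          (ResidueField (W.comap (algebraMap K₃ M)))
          (residue ((W.comap N.subtype).comap (algebraMap K₂ N)) ⟨_, hx⟩) := by
      rw [← map_pow]
      show _ = residue (W.comap (algebraMap K₃ M))
        (algebraMap ((W.comap N.subtype).comap (algebraMap K₂ N))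
          (W.comap (algebraMap K₃ M)) ⟨_, hx⟩)
      congr 1
      apply Subtype.ext
      show (v : K₃) ^ (p ^ n) = φK (algebraMap K₃ K₂ v)
      rw [hφK₃]
    have hint : IsIntegral (ResidueField ((W.comap N.subtype).comap (algebraMap K₂ N)))
        (residue (W.comap (algebraMap K₃ M)) v) := by
      refine IsIntegral.of_pow hq0 ?_
      rw [hpow]
      exact isIntegral_algebraMap
    exact hint.isAlgebraic
  haveI hgr : Algebra.IsGeometricallyReduced
      (ResidueField ((W.comap N.subtype).comap (algebraMap K₂ N)))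
      (ResidueField (W.comap N.subtype)) := by
    have heq : (IsLocalRing.ResidueField.map
        (EtRam.inclOfComap (W.comap N.subtype) (algebraMap K₂ N))).toAlgebra =
        (inferInstance : Algebra (ResidueField ((W.comap N.subtype).comap (algebraMap K₂ N)))
          (ResidueField (W.comap N.subtype))) := by
      apply Algebra.algebra_ext
      intro r
      obtain ⟨x, rfl⟩ := residue_surjective r
      rfl
    have h := hN.2
    rw [heq] at h
    exact h
  have hw : IsWeaklyUnramified ((W.comap N.subtype).comap (algebraMap K₂ N))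
      (W.comap N.subtype) := hN.1
  have hVW : Function.Injective (algebraMap (W.comap (algebraMap K₃ M)) W) := by
    intro a b hab
    have := congrArg (fun v : W => (v : M)) hab
    exact Subtype.ext ((algebraMap K₃ M).injective this)
  -- generation
  have hgenraw : ∀ x : M, ∃ (m : ℕ) (v : Fin m → W.comap (algebraMap K₃ M))
      (b : Fin m → W.comap N.subtype) (v₀ : W.comap (algebraMap K₃ M)) (b₀ : W.comap N.subtype),
      algebraMap K₃ M (v₀ : K₃) * ((b₀ : N) : M) ≠ 0 ∧
      x * (algebraMap K₃ M (v₀ : K₃) * ((b₀ : N) : M)) =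
        ∑ i, algebraMap K₃ M (v i : K₃) * ((b i : N) : M) := by
    intro x
    letI algK₂K₃ : Algebra K₂ K₃ := φK.toAlgebra
    letI algK₂M : Algebra K₂ M := g₂.toAlgebra
    haveI towK₂NM : IsScalarTower K₂ N M := IsScalarTower.of_algebraMap_eq (fun x => rfl)
    haveI towK₂K₃M : IsScalarTower K₂ K₃ M := IsScalarTower.of_algebraMap_eq (fun x => hg₂ x)
    have hgenM' : Algebra.adjoin N (Set.range (algebraMap K₃ M)) = ⊤ :=
      adjoin_subfield_eq_top (K := K) (L := L) p n hgenM N (fun a => by rw [← hgL]; exact hLN a)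
    exact AbhGen.generation ((W.comap N.subtype).comap (algebraMap K₂ N)) (W.comap N.subtype)
      K₂ N K₃ M hgenM' (W.comap (algebraMap K₃ M)) x
  have hψ : ∀ (v : W.comap (algebraMap K₃ M)) (b : W.comap N.subtype),
      ((Algebra.TensorProduct.productMap
        (IsScalarTower.toAlgHom ((W.comap N.subtype).comap (algebraMap K₂ N))
          (W.comap (algebraMap K₃ M)) W)
        (IsScalarTower.toAlgHom ((W.comap N.subtype).comap (algebraMap K₂ N))
          (W.comap N.subtype) W)
        (v ⊗ₜ[(W.comap N.subtype).comap (algebraMap K₂ N)] b) : W) : M) =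
      algebraMap K₃ M (v : K₃) * ((b : N) : M) := by
    intro v b
    rw [Algebra.TensorProduct.productMap_apply_tmul]
    rfl
  have hgen : ∀ w : W, ∃ c s : (W.comap (algebraMap K₃ M))
        ⊗[(W.comap N.subtype).comap (algebraMap K₂ N)] (W.comap N.subtype),
      Algebra.TensorProduct.productMap
        (IsScalarTower.toAlgHom ((W.comap N.subtype).comap (algebraMap K₂ N))
          (W.comap (algebraMap K₃ M)) W)
        (IsScalarTower.toAlgHom ((W.comap N.subtype).comap (algebraMap K₂ N))
          (W.comap N.subtype) W) s ≠ 0 ∧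
      w * Algebra.TensorProduct.productMap
        (IsScalarTower.toAlgHom ((W.comap N.subtype).comap (algebraMap K₂ N))
          (W.comap (algebraMap K₃ M)) W)
        (IsScalarTower.toAlgHom ((W.comap N.subtype).comap (algebraMap K₂ N))
          (W.comap N.subtype) W) s =
      Algebra.TensorProduct.productMap
        (IsScalarTower.toAlgHom ((W.comap N.subtype).comap (algebraMap K₂ N))
          (W.comap (algebraMap K₃ M)) W)
        (IsScalarTower.toAlgHom ((W.comap N.subtype).comap (algebraMap K₂ N))
          (W.comap N.subtype) W) c := by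
    intro w
    obtain ⟨m, v, b, v₀, b₀, hne, he⟩ := hgenraw (w : M)
    refine ⟨∑ i, v i ⊗ₜ[(W.comap N.subtype).comap (algebraMap K₂ N)] b i,
      v₀ ⊗ₜ[(W.comap N.subtype).comap (algebraMap K₂ N)] b₀, ?_, ?_⟩
    · intro h0
      apply hne
      rw [← hψ, h0]
      rfl
    · apply Subtype.ext
      rw [MulMemClass.coe_mul, hψ, he, map_sum]
      rw [AddSubmonoidClass.coe_finset_sum]
      apply Finset.sum_congr rfl
      intro i _
      exact (hψ (v i) (b i)).symm
  obtain ⟨h1, h2⟩ := AbhDVR0.weaklyUnramified_and_geometricallyReduced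
    ((W.comap N.subtype).comap (algebraMap K₂ N)) (W.comap N.subtype)
    (W.comap (algebraMap K₃ M)) W hw hVW hgen
  refine ⟨h1, ?_⟩
  have heq : (IsLocalRing.ResidueField.map (EtRam.inclOfComap W (algebraMap K₃ M))).toAlgebra =
      (inferInstance : Algebra (ResidueField (W.comap (algebraMap K₃ M))) (ResidueField W)) := by
    apply Algebra.algebra_ext
    intro r
    obtain ⟨x, rfl⟩ := residue_surjective r
    rfl
  rw [heq]
  exact h2

end Main

end Groth.Agent.Lib.Helper9.SepSol.Descent
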